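import Groth.Agent.H24.Weierstrass.Basic
import Mathlib.RingTheory.Flat.TorsionFree
import Mathlib.RingTheory.AdjoinRoot

/-!
# Division by a distinguished polynomial over a henselian local ring
-/

universe u

open Polynomial IsLocalRing
open Groth.Agent.Lib.Henselian

namespace Groth.Agent.H24.Weierstrass

variable {R : Type u} [CommRing R] [HenselianLocalRing R] {B : Type u} [CommRing B] [Algebra R[X] B]
  (hB : Hens2.IsPairHenselization R[X] (Ideal.span {(X : R[X])}) B) {P : R[X]}

include hB in
/-- `R[X]/(P) = B/(P)` for a distinguished polynomial `P`. -/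
theorem quotientMap_bijective (hm : P.Monic)
    (hc : ∀ i : ℕ, i < P.natDegree → P.coeff i ∈ maximalIdeal R) :
    Function.Bijective (Ideal.quotientMap ((Ideal.span {P}).map (algebraMap R[X] B)) (algebraMap R[X] B)
      Ideal.le_comap_map) := by
  let A' := R[X] ⧸ Ideal.span {P}
  have : Module.Finite R A' := hm.finite_quotient
  have h1 := Pair.henselianRing_of_isIntegral (maximalIdeal R) A'
  have hmem : Ideal.Quotient.mk (Ideal.span {P}) X ^ P.natDegree ∈
      (maximalIdeal R).map (algebraMap R A') := by
    have h0 : X ^ P.natDegree - P ∈ (maximalIdeal R).map (C : R →+* R[X]) := by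
      refine Ideal.mem_map_C_iff.mpr fun i => ?_
      rw [coeff_sub, coeff_X_pow]
      rcases lt_trichotomy i P.natDegree with h | h | h
      · rw [if_neg h.ne, zero_sub, neg_mem_iff]; exact hc i h
      · rw [if_pos h, h, hm.coeff_natDegree, sub_self]; exact zero_mem _
      · rw [if_neg h.ne', coeff_eq_zero_of_natDegree_lt h, sub_self]; exact zero_mem _
    have h2 := Ideal.mem_map_of_mem (Ideal.Quotient.mk (Ideal.span {P})) h0
    rw [Ideal.map_map, map_sub, map_pow, Ideal.Quotient.eq_zero_iff_mem.mpr
      (Ideal.mem_span_singleton_self P), sub_zero] at h2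
    exact h2
  have h2 := Pair.henselianRing_radical ((maximalIdeal R).map (algebraMap R A'))
  have h3 : HenselianRing A' ((Ideal.span {(X : R[X])}).map (Ideal.Quotient.mk (Ideal.span {P}))) := by
    refine Basic.henselianRing_of_le (J := ((maximalIdeal R).map (algebraMap R A')).radical) ?_
    rw [Ideal.map_span, Set.image_singleton, Ideal.span_singleton_le_iff_mem]
    exact ⟨_, hmem⟩
  let : Algebra A' (B ⧸ (Ideal.span {P}).map (algebraMap R[X] B)) :=
    (Ideal.quotientMap _ (algebraMap R[X] B) Ideal.le_comap_map).toAlgebra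
  have h4 := PairUP.quotient hB (Ideal.span {P}) fun r => rfl
  let e := PairUP.algEquivOf
    (PairUP.isPairHenselization_self A' ((Ideal.span {(X : R[X])}).map (Ideal.Quotient.mk _))) h4
  show Function.Bijective (algebraMap A' (B ⧸ (Ideal.span {P}).map (algebraMap R[X] B)))
  rw [show ⇑(algebraMap A' (B ⧸ (Ideal.span {P}).map (algebraMap R[X] B))) = ⇑e from
    funext fun x => (e.commutes x).symm]
  exact e.bijective

include hB in
theorem division (hm : P.Monic) (hc : ∀ i : ℕ, i < P.natDegree → P.coeff i ∈ maximalIdeal R)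
    (f : B) (u : Bˣ) (hf : f = algebraMap R[X] B P * (u : B)) :
    (∀ b : B, ∃ q : R[X], algebraMap R[X] B q - b ∈ Ideal.span {f}) ∧
      (∀ q : R[X], algebraMap R[X] B q ∈ Ideal.span {f} → q ∈ Ideal.span {P}) := by
  obtain ⟨hi, hs⟩ := quotientMap_bijective hB hm hc
  have he : Ideal.span {f} = (Ideal.span {P}).map (algebraMap R[X] B) := by
    rw [Ideal.map_span, Set.image_singleton, hf, Ideal.span_singleton_mul_right_unit u.isUnit]
  rw [he]
  refine ⟨fun b => ?_, fun q hq => ?_⟩
  · obtain ⟨q, hq⟩ := hs (Ideal.Quotient.mk _ b)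
    obtain ⟨q, rfl⟩ := Ideal.Quotient.mk_surjective q
    rw [Ideal.quotientMap_mk, Ideal.Quotient.eq] at hq
    exact ⟨q, hq⟩
  · have := hi (a₁ := Ideal.Quotient.mk _ q) (a₂ := 0) (by
      rwa [Ideal.quotientMap_mk, map_zero, Ideal.Quotient.eq_zero_iff_mem])
    rwa [Ideal.Quotient.eq_zero_iff_mem] at this

include hB in
omit [HenselianLocalRing R] in
theorem mul_left_injective_of_monic (hm : P.Monic) {b b' : B}
    (h : algebraMap R[X] B P * b = algebraMap R[X] B P * b') : b = b' := by
  have := PairUP.flat hB
  exact (Module.Flat.isSMulRegular_of_isRegular hm.isRegular : IsSMulRegular B P)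
    (by simpa only [Algebra.smul_def] using h)

end Groth.Agent.H24.Weierstrass
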