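import Groth.Agent.Lib.Henselian.PairUP
import Mathlib.RingTheory.Henselian

/-!
# The henselization of `R[X]` along `(X)`

Truncations modulo `X ^ n`, units, and the henselian ideal `m + (X)`.
-/

universe u

open Polynomial IsLocalRing
open Groth.Agent.Lib.Henselian

namespace Groth.Agent.H24.Weierstrass

variable {R : Type u} [CommRing R] {B : Type u} [CommRing B] [Algebra R B] [Algebra R[X] B]
  [IsScalarTower R R[X] B]

local notation "bX" => algebraMap R[X] B (X : R[X])

omit [Algebra R B] [IsScalarTower R R[X] B] in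
theorem span_pow_map (n : ℕ) :
    ((Ideal.span {(X : R[X])}) ^ n).map (algebraMap R[X] B) = Ideal.span {bX ^ n} := by
  rw [Ideal.span_singleton_pow, Ideal.map_span, Set.image_singleton, map_pow]

variable (hB : Hens2.IsPairHenselization R[X] (Ideal.span {(X : R[X])}) B)

include hB

omit [Algebra R B] [IsScalarTower R R[X] B] in
theorem exists_poly_sub_mem (n : ℕ) (b : B) :
    ∃ p : R[X], b - algebraMap R[X] B p ∈ Ideal.span {bX ^ n} := by
  obtain ⟨p, hp⟩ := (PairUP.quotientMap_pow_bijective hB n).2 (Ideal.Quotient.mk _ b)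
  obtain ⟨p, rfl⟩ := Ideal.Quotient.mk_surjective p
  rw [Ideal.quotientMap_mk, eq_comm, Ideal.Quotient.eq, span_pow_map] at hp
  exact ⟨p, hp⟩

omit [Algebra R B] [IsScalarTower R R[X] B] in
theorem coeff_eq_zero_of_mem {n : ℕ} {p : R[X]} (hp : algebraMap R[X] B p ∈ Ideal.span {bX ^ n})
    {i : ℕ} (hi : i < n) : p.coeff i = 0 := by
  have := (PairUP.quotientMap_pow_bijective hB n).1
    (a₁ := Ideal.Quotient.mk _ p) (a₂ := 0) (by
      rw [Ideal.quotientMap_mk, map_zero, Ideal.Quotient.eq_zero_iff_mem, span_pow_map]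
      exact hp)
  rw [Ideal.Quotient.eq_zero_iff_mem, Ideal.span_singleton_pow, Ideal.mem_span_singleton] at this
  exact Polynomial.X_pow_dvd_iff.mp this i hi

theorem coeff_mem_of_mem {n : ℕ} {p : R[X]} {I : Ideal R}
    (hp : algebraMap R[X] B p ∈ I.map (algebraMap R B) ⊔ Ideal.span {bX ^ n})
    {i : ℕ} (hi : i < n) : p.coeff i ∈ I := by
  obtain ⟨y, hy, z, hz, he⟩ := Submodule.mem_sup.mp hp
  have hs : Function.Surjective ((Ideal.Quotient.mk (Ideal.span {bX ^ n})).comp (algebraMap R[X] B)) := by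
    intro q
    obtain ⟨b, rfl⟩ := Ideal.Quotient.mk_surjective q
    obtain ⟨p, hp⟩ := exists_poly_sub_mem hB n b
    exact ⟨p, (Ideal.Quotient.eq.mpr hp).symm⟩
  have h1 := Ideal.mem_map_of_mem (Ideal.Quotient.mk (Ideal.span {bX ^ n})) hy
  rw [IsScalarTower.algebraMap_eq R R[X] B, ← Ideal.map_map, Ideal.map_map,
    Ideal.mem_map_iff_of_surjective _ hs] at h1
  obtain ⟨q, hq, hqy⟩ := h1
  rw [RingHom.comp_apply, Ideal.Quotient.eq] at hqy
  have h2 : algebraMap R[X] B (p - q) ∈ Ideal.span {bX ^ n} := by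
    rw [map_sub, show algebraMap R[X] B p - algebraMap R[X] B q
        = z - (algebraMap R[X] B q - y) by rw [← he]; ring]
    exact sub_mem hz hqy
  have h3 := coeff_eq_zero_of_mem hB h2 hi
  rw [coeff_sub, sub_eq_zero] at h3
  rw [h3]
  rw [Polynomial.algebraMap_eq] at hq
  exact Ideal.mem_map_C_iff.mp hq i

theorem exists_const_sub_mem (b : B) : ∃ r : R, b - algebraMap R B r ∈ Ideal.span {bX} := by
  obtain ⟨p, hp⟩ := exists_poly_sub_mem hB 1 b
  rw [pow_one] at hp
  refine ⟨p.coeff 0, ?_⟩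
  have h2 : algebraMap R[X] B p - algebraMap R B (p.coeff 0) ∈ Ideal.span {bX} := by
    rw [IsScalarTower.algebraMap_apply R R[X] B, Polynomial.algebraMap_eq, ← map_sub]
    obtain ⟨q, hq⟩ := X_dvd_iff.mpr (show (p - C (p.coeff 0)).coeff 0 = 0 by simp)
    rw [hq, map_mul]
    exact Ideal.mul_mem_right _ _ (Ideal.mem_span_singleton_self _)
  simpa using add_mem hp h2

theorem exists_trunc (n : ℕ) (b : B) :
    ∃ r : Fin n → R, b - ∑ i, r i • bX ^ (i : ℕ) ∈ Ideal.span {bX ^ n} := by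
  induction n generalizing b with
  | zero => exact ⟨Fin.elim0, by simp⟩
  | succ n ih =>
    obtain ⟨r0, hr0⟩ := exists_const_sub_mem hB b
    obtain ⟨b1, hb1⟩ := Ideal.mem_span_singleton.mp hr0
    obtain ⟨r, hr⟩ := ih b1
    obtain ⟨c, hc⟩ := Ideal.mem_span_singleton.mp hr
    refine ⟨Fin.cons r0 r, Ideal.mem_span_singleton.mpr ⟨c, ?_⟩⟩
    rw [Fin.sum_univ_succ]
    simp only [Fin.cons_zero, Fin.cons_succ, Fin.val_zero, pow_zero, Fin.val_succ, pow_succ',
      ← mul_smul_comm, ← Finset.mul_sum]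
    rw [← Algebra.algebraMap_eq_smul_one, ← sub_sub, hb1, ← mul_sub, hc, mul_assoc]

omit [Algebra R B] [IsScalarTower R R[X] B] in
theorem span_X_le_jacobson : Ideal.span {bX} ≤ Ideal.jacobson ⊥ := by
  have := hB.1.jac
  rwa [Ideal.map_span, Set.image_singleton] at this

variable [IsLocalRing R]

theorem isUnit_or_mem (b : B) :
    IsUnit b ∨ b ∈ (maximalIdeal R).map (algebraMap R B) ⊔ Ideal.span {bX} := by
  obtain ⟨r, hr⟩ := exists_const_sub_mem hB b
  by_cases hu : IsUnit r
  · exact Or.inl (Basic.isUnit_of_sub_mem (span_X_le_jacobson hB) (hu.map (algebraMap R B)) hr)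
  · refine Or.inr ?_
    have := Submodule.add_mem_sup (Ideal.mem_map_of_mem (algebraMap R B)
      (show r ∈ maximalIdeal R from hu)) hr
    rwa [add_sub_cancel] at this

end Groth.Agent.H24.Weierstrass
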