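import Groth.Agent.Lib.Henselian.PairUP

/-!
# A henselization of an epimorphic algebra killing an element
-/

universe u

open Groth.Agent.Lib.Henselian

namespace Groth.Agent.H24.Weierstrass

/-- If `R0` is an epimorphic `S`-algebra in which `a` dies, mapping to `B / a B`, and `B / a B` is
henselian along the image of `L`, then it is the henselization of `(R0, L)`. -/
theorem quotient_epi {S : Type u} [CommRing S] {K : Ideal S} {B : Type u} [CommRing B] [Algebra S B]
    (hB : Hens2.IsPairHenselization S K B) (a : S) {R0 : Type u} [CommRing R0] [Algebra S R0]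
    [Algebra R0 (B ⧸ Ideal.span {algebraMap S B a})]
    [IsScalarTower S R0 (B ⧸ Ideal.span {algebraMap S B a})]
    (hepi : ∀ (C : Type u) [CommRing C] (g g' : R0 →+* C),
      g.comp (algebraMap S R0) = g'.comp (algebraMap S R0) → g = g')
    (ha : algebraMap S R0 a = 0) (L : Ideal R0)
    (hK : K.map (algebraMap S R0) ≤ L.radical)
    (hH : HenselianRing (B ⧸ Ideal.span {algebraMap S B a})
      (L.map (algebraMap R0 (B ⧸ Ideal.span {algebraMap S B a})))) :
    Hens2.IsPairHenselization R0 L (B ⧸ Ideal.span {algebraMap S B a}) := by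
  refine ⟨hH, fun C _ J f hC hf => ?_⟩
  have hh : K.map (f.comp (algebraMap S R0)) ≤ J.radical := by
    rw [← Ideal.map_map]
    exact ((Ideal.map_mono hK).trans (Ideal.map_radical_le f)).trans (Ideal.radical_mono hf)
  obtain ⟨g, hg, huniq⟩ := hB.2 C J.radical _ (Pair.henselianRing_radical J) hh
  have hga : g (algebraMap S B a) = 0 := by
    rw [← RingHom.comp_apply, hg, RingHom.comp_apply, ha, map_zero]
  have hmk : (algebraMap R0 (B ⧸ Ideal.span {algebraMap S B a})).comp (algebraMap S R0)
      = (Ideal.Quotient.mk _).comp (algebraMap S B) := by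
    rw [← IsScalarTower.algebraMap_eq]
    rfl
  have hle : Ideal.span {algebraMap S B a} ≤ RingHom.ker g :=
    (Ideal.span_singleton_le_iff_mem _).mpr hga
  refine ⟨Ideal.Quotient.lift _ g hle, hepi C _ _ ?_, fun g' hg' => Ideal.Quotient.ringHom_ext ?_⟩
  · rw [RingHom.comp_assoc, hmk, ← RingHom.comp_assoc]
    exact hg
  · refine (huniq _ ?_).trans (Ideal.Quotient.lift_comp_mk _ _ _).symm
    show (g'.comp _).comp _ = _
    rw [RingHom.comp_assoc, ← hmk, ← RingHom.comp_assoc, hg']

end Groth.Agent.H24.Weierstrass
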