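import Groth.Agent.H24.Weierstrass.Basic
import Groth.Agent.H24.Weierstrass.QuotAway
import Groth.Agent.Lib.Henselian.HfpFinite
import Mathlib.RingTheory.Filtration

/-!
# Existence in Weierstrass preparation over a henselian local ring
-/

universe u

open Polynomial IsLocalRing
open Groth.Agent.Lib.Henselian

namespace Groth.Agent.H24.Weierstrass

variable {R : Type u} [CommRing R] {B : Type u} [CommRing B] [Algebra R B] [Algebra R[X] B]
  [IsScalarTower R R[X] B]

local notation "bX" => algebraMap R[X] B (X : R[X])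

theorem henselianRing_sup_map [HenselianLocalRing R]
    (hB : Hens2.IsPairHenselization R[X] (Ideal.span {(X : R[X])}) B) :
    HenselianRing B ((maximalIdeal R).map (algebraMap R B) ⊔ Ideal.span {bX}) := by
  have hx : HenselianRing B (Ideal.span {bX}) := by
    have := hB.1
    rwa [Ideal.map_span, Set.image_singleton] at this
  have hsurj : Function.Surjective (algebraMap R (B ⧸ Ideal.span {bX})) := fun q => by
    obtain ⟨b, rfl⟩ := Ideal.Quotient.mk_surjective q
    obtain ⟨r, hr⟩ := exists_const_sub_mem hB b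
    exact ⟨r, (Ideal.Quotient.eq.mpr hr).symm⟩
  have : Algebra.IsIntegral R (B ⧸ Ideal.span {bX}) :=
    Algebra.IsIntegral.of_surjective (Algebra.ofId R _) hsurj
  have h2 := Pair.henselianRing_of_isIntegral (maximalIdeal R) (B ⧸ Ideal.span {bX})
  have : HenselianRing (B ⧸ Ideal.span {bX})
      (((maximalIdeal R).map (algebraMap R B) ⊔ Ideal.span {bX}).map (Ideal.Quotient.mk _)) := by
    rw [Ideal.map_sup, Ideal.map_quotient_self, sup_bot_eq, Ideal.map_map]
    exact h2
  exact Basic.henselianRing_of_quotient le_sup_right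

variable [HenselianLocalRing R] (hB : Hens2.IsPairHenselization R[X] (Ideal.span {(X : R[X])}) B)

section Nbhd

variable {S : Type u} [CommRing S] [Algebra R S] [Algebra R[X] S] [IsScalarTower R R[X] S]
  [Algebra S B] [IsScalarTower R[X] S B] [IsScalarTower R S B]

include hB in
omit [Algebra R S] [Algebra R[X] S] [IsScalarTower R R[X] S] [IsScalarTower R[X] S B] [IsScalarTower R S B] in
theorem map_sup_le_jacobson :
    (maximalIdeal R).map (algebraMap R B) ⊔ Ideal.span {bX} ≤ Ideal.jacobson ⊥ :=
  (henselianRing_sup_map hB).jac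

variable [Algebra.FiniteType R S]
  (hS : PairHenselization.IsNbhd (Ideal.span {(X : R[X])}) S)

include hB hS in
/-- An element outside `mB` is `X ^ d` times a unit modulo `m S`. -/
theorem exists_X_pow_mul (a : S)
    (ha : algebraMap S B a ∉ (maximalIdeal R).map (algebraMap R B)) :
    ∃ (d : ℕ) (s : S), a - algebraMap R[X] S X ^ d * s ∈ (maximalIdeal R).map (algebraMap R S) ∧
      IsUnit (algebraMap S B s) := by
  by_contra hne
  push Not at hne
  set mS := (maximalIdeal R).map (algebraMap R S) with hmS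
  set xS := algebraMap R[X] S X with hxS
  have hxB : algebraMap S B xS = bX := (IsScalarTower.algebraMap_apply _ _ _ _).symm
  have hmap : mS.map (algebraMap S B) = (maximalIdeal R).map (algebraMap R B) := by
    rw [hmS, Ideal.map_map, ← IsScalarTower.algebraMap_eq]
  have step : ∀ n : ℕ, ∃ c : S, a - xS ^ n * c ∈ mS := by
    intro n
    induction n with
    | zero => exact ⟨a, by simp⟩
    | succ n ih =>
      obtain ⟨c, hc⟩ := ih
      obtain ⟨p, hp⟩ := PairHenselization.exists_sub_mem_of_isNbhd hS c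
      rw [Ideal.map_span, Set.image_singleton, Ideal.mem_span_singleton] at hp
      obtain ⟨e, he⟩ := hp
      obtain ⟨q, hq⟩ := X_dvd_iff.mpr (show (p - C (p.coeff 0)).coeff 0 = 0 by simp)
      have hc' : c = algebraMap R S (p.coeff 0) + xS * (e + algebraMap R[X] S q) := by
        have hp' : algebraMap R[X] S p - algebraMap R S (p.coeff 0) = xS * algebraMap R[X] S q := by
          rw [IsScalarTower.algebraMap_apply R R[X] S, Polynomial.algebraMap_eq, ← map_sub, hq, map_mul]
        rw [mul_add, ← he, ← hp']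
        ring
      have hnu : p.coeff 0 ∈ maximalIdeal R := by
        refine fun hu => hne n c hc ?_
        refine Basic.isUnit_of_sub_mem (span_X_le_jacobson hB) (hu.map (algebraMap R B)) ?_
        rw [hc', map_add, map_mul, ← IsScalarTower.algebraMap_apply, add_sub_cancel_left, hxB]
        exact Ideal.mul_mem_right _ _ (Ideal.mem_span_singleton_self _)
      refine ⟨e + algebraMap R[X] S q, ?_⟩
      rw [show a - xS ^ (n + 1) * (e + algebraMap R[X] S q)
          = (a - xS ^ n * c) + xS ^ n * algebraMap R S (p.coeff 0) by rw [hc', pow_succ]; ring]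
      exact add_mem hc (Ideal.mul_mem_left _ _ (Ideal.mem_map_of_mem _ hnu))
  let := Ideal.Quotient.field (maximalIdeal R)
  have : Algebra.FiniteType R (S ⧸ mS) :=
    Algebra.FiniteType.of_surjective (Ideal.Quotient.mkₐ R mS) Ideal.Quotient.mk_surjective
  let : Algebra (R ⧸ maximalIdeal R) (S ⧸ mS) :=
    (Ideal.quotientMap mS (algebraMap R S) Ideal.le_comap_map).toAlgebra
  have : IsScalarTower R (R ⧸ maximalIdeal R) (S ⧸ mS) := IsScalarTower.of_algebraMap_eq fun _ => rfl
  have : Algebra.FiniteType (R ⧸ maximalIdeal R) (S ⧸ mS) :=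
    Algebra.FiniteType.of_restrictScalars_finiteType R (R ⧸ maximalIdeal R) (S ⧸ mS)
  have : IsNoetherianRing (S ⧸ mS) :=
    Algebra.FiniteType.isNoetherianRing (R ⧸ maximalIdeal R) _
  have hinf : Ideal.Quotient.mk mS a ∈
      (⨅ i : ℕ, Ideal.span {Ideal.Quotient.mk mS xS} ^ i • (⊤ : Submodule (S ⧸ mS) (S ⧸ mS))) := by
    refine Submodule.mem_iInf _ |>.mpr fun i => ?_
    obtain ⟨c, hc⟩ := step i
    rw [smul_eq_mul, Ideal.mul_top, Ideal.span_singleton_pow, Ideal.mem_span_singleton,
      Ideal.Quotient.eq.mpr hc, map_mul, map_pow]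
    exact dvd_mul_right _ _
  obtain ⟨⟨r, hr⟩, hra⟩ := (Ideal.mem_iInf_smul_pow_eq_bot_iff _ _).mp hinf
  obtain ⟨z, hz⟩ := Ideal.mem_span_singleton.mp hr
  obtain ⟨z, rfl⟩ := Ideal.Quotient.mk_surjective z
  rw [show r • Ideal.Quotient.mk mS a = r * Ideal.Quotient.mk mS a from rfl, hz, ← map_mul, ← map_mul,
    Ideal.Quotient.eq] at hra
  have h1 := Ideal.mem_map_of_mem (algebraMap S B) hra
  rw [hmap, map_sub, map_mul, map_mul, hxB] at h1
  refine ha ?_
  have hu : IsUnit (bX * algebraMap S B z - 1) := by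
    refine Basic.isUnit_of_sub_mem (span_X_le_jacobson hB) (isUnit_one.neg) ?_
    rw [sub_neg_eq_add, sub_add_cancel]
    exact Ideal.mul_mem_right _ _ (Ideal.mem_span_singleton_self _)
  rw [← Ideal.unit_mul_mem_iff_mem _ hu, sub_mul, one_mul]
  exact h1

end Nbhd

include hB in
/-- `B / f B` is generated by `1, X, ..., X ^ (d - 1)`. -/
theorem exists_span (f : B) (hf : f ∉ (maximalIdeal R).map (algebraMap R B)) :
    ∃ (d : ℕ) (w : B), IsUnit w ∧ f - bX ^ d * w ∈ (maximalIdeal R).map (algebraMap R B) ∧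
      ∃ c : Fin d → R, bX ^ d - ∑ i, c i • bX ^ (i : ℕ) ∈ Ideal.span {f} := by
  classical
  obtain ⟨S, _, _, _, hS, φ, hφ⟩ := PairHenselization.exists_isNbhd_range hB {f}
  obtain ⟨a, rfl⟩ := hφ (Finset.mem_singleton_self f)
  let : Algebra S B := φ.toRingHom.toAlgebra
  have : IsScalarTower R[X] S B := IsScalarTower.of_algebraMap_eq fun p => (φ.commutes p).symm
  let : Algebra R S := Algebra.compHom S (algebraMap R R[X])
  have : IsScalarTower R R[X] S := IsScalarTower.of_algebraMap_eq fun _ => rfl
  have : IsScalarTower R S B := IsScalarTower.of_algebraMap_eq fun r => by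
    rw [IsScalarTower.algebraMap_apply R R[X] B, IsScalarTower.algebraMap_apply R R[X] S,
      ← IsScalarTower.algebraMap_apply R[X] S B]
  have : Algebra.FinitePresentation R S := Algebra.FinitePresentation.trans R R[X] S
  obtain ⟨d, s, has, hs⟩ := exists_X_pow_mul hB hS a hf
  let Q := S ⧸ Ideal.span {a}
  have : Algebra.FinitePresentation R Q := Algebra.FinitePresentation.quotient ⟨{a}, by simp⟩
  let R0 := Localization.Away (Ideal.Quotient.mk (Ideal.span {a}) s)
  have : Algebra.FinitePresentation Q R0 :=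
    IsLocalization.Away.finitePresentation (Ideal.Quotient.mk (Ideal.span {a}) s)
  have : Algebra.FinitePresentation R R0 := Algebra.FinitePresentation.trans R Q R0
  let M := B ⧸ Ideal.span {algebraMap S B a}
  let g0 : Q →+* M := Ideal.Quotient.lift _ ((Ideal.Quotient.mk _).comp (algebraMap S B)) fun y hy => by
    obtain ⟨c, rfl⟩ := Ideal.mem_span_singleton.mp hy
    rw [RingHom.comp_apply, map_mul, Ideal.Quotient.eq_zero_iff_mem]
    exact Ideal.mul_mem_right _ _ (Ideal.mem_span_singleton_self _)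
  have hg0 : IsUnit (g0 (Ideal.Quotient.mk _ s)) := hs.map (Ideal.Quotient.mk _)
  let g : R0 →+* M := IsLocalization.Away.lift (Ideal.Quotient.mk (Ideal.span {a}) s) hg0
  have hg : ∀ q, g (algebraMap Q R0 q) = g0 q := fun q => IsLocalization.Away.lift_eq _ hg0 q
  let : Algebra R0 M := g.toAlgebra
  have : IsScalarTower S R0 M := IsScalarTower.of_algebraMap_eq fun y => by
    rw [IsScalarTower.algebraMap_apply S Q R0]
    exact (hg (Ideal.Quotient.mk _ y)).symm
  have : IsScalarTower R R0 M := IsScalarTower.of_algebraMap_eq fun r => by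
    rw [IsScalarTower.algebraMap_apply R S R0, ← IsScalarTower.algebraMap_apply S R0 M,
      ← IsScalarTower.algebraMap_apply R S M]
  set L := (maximalIdeal R).map (algebraMap R R0) with hL
  have hLM : L.map (algebraMap R0 M) = (maximalIdeal R).map (algebraMap R M) := by
    rw [hL, Ideal.map_map, ← IsScalarTower.algebraMap_eq]
  have hB' := PairUP.of_isNbhd' hS hB
  have hxL : algebraMap S R0 (algebraMap R[X] S X) ∈ L.radical := by
    refine ⟨d, ?_⟩
    have hu : IsUnit (algebraMap S R0 s) := by
      rw [IsScalarTower.algebraMap_apply S Q R0]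
      exact IsLocalization.Away.algebraMap_isUnit (Ideal.Quotient.mk (Ideal.span {a}) s)
    rw [← Ideal.mul_unit_mem_iff_mem _ hu, ← map_pow, ← map_mul]
    have h0 : algebraMap S R0 a = 0 := by
      rw [IsScalarTower.algebraMap_apply S Q R0, Ideal.Quotient.algebraMap_eq,
        Ideal.Quotient.eq_zero_iff_mem.mpr (Ideal.mem_span_singleton_self a), map_zero]
    have := Ideal.mem_map_of_mem (algebraMap S R0) has
    rw [Ideal.map_map, ← IsScalarTower.algebraMap_eq, map_sub, h0, zero_sub, neg_mem_iff] at this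
    exact this
  have hhens : HenselianRing M ((maximalIdeal R).map (algebraMap R M)) := by
    have := henselianRing_sup_map hB
    have h2 := Pair.henselianRing_of_isIntegral
      ((maximalIdeal R).map (algebraMap R B) ⊔ Ideal.span {bX}) M
    refine Basic.henselianRing_of_le (J := ((maximalIdeal R).map (algebraMap R B) ⊔
      Ideal.span {bX}).map (algebraMap B M)) ?_
    rw [IsScalarTower.algebraMap_eq R B M, ← Ideal.map_map]
    exact Ideal.map_mono le_sup_left
  have hM : Hens2.IsPairHenselization R0 L M := by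
    refine quotient_epi hB' a (fun C _ p p' h => ?_) ?_ L ?_ (hLM ▸ hhens)
    · refine IsLocalization.ringHom_ext (Submonoid.powers (Ideal.Quotient.mk (Ideal.span {a}) s))
        (Ideal.Quotient.ringHom_ext ?_)
      rw [RingHom.comp_assoc, RingHom.comp_assoc, show (algebraMap Q R0).comp (Ideal.Quotient.mk _)
        = algebraMap S R0 from (IsScalarTower.algebraMap_eq S Q R0).symm, h]
    · rw [IsScalarTower.algebraMap_apply S Q R0, Ideal.Quotient.algebraMap_eq,
        Ideal.Quotient.eq_zero_iff_mem.mpr (Ideal.mem_span_singleton_self a), map_zero]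
    · rw [Ideal.map_map, Ideal.map_span, Set.image_singleton, Ideal.span_singleton_le_iff_mem]
      exact hxL
  set N := (maximalIdeal R).map (algebraMap R M) with hN
  let Φ : (Fin d → R) →ₗ[R] M := ∑ i, (LinearMap.proj i).smulRight (Ideal.Quotient.mk _ (bX ^ (i : ℕ)))
  have hΦ : ∀ c : Fin d → R, Φ c = Ideal.Quotient.mk _ (∑ i, c i • bX ^ (i : ℕ)) := fun c => by
    simp only [Φ, LinearMap.sum_apply, LinearMap.smulRight_apply, LinearMap.proj_apply, map_sum]
    rfl
  have hsp : ∀ m : M, ∃ c, m - Φ c ∈ N := fun m => by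
    obtain ⟨b, rfl⟩ := Ideal.Quotient.mk_surjective m
    obtain ⟨c, hc⟩ := exists_trunc hB d b
    refine ⟨c, ?_⟩
    rw [hΦ, ← map_sub]
    obtain ⟨e, he⟩ := Ideal.mem_span_singleton.mp hc
    rw [he, map_mul]
    refine Ideal.mul_mem_right _ _ ?_
    have h0 := Ideal.mem_map_of_mem (algebraMap S M) has
    rw [Ideal.map_map, ← IsScalarTower.algebraMap_eq, IsScalarTower.algebraMap_apply S B M] at h0
    rw [Ideal.Quotient.algebraMap_eq, map_sub, map_sub, map_mul, map_pow,
      Ideal.Quotient.eq_zero_iff_mem.mpr (Ideal.mem_span_singleton_self (algebraMap S B a)),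
      zero_sub, neg_mem_iff, ← IsScalarTower.algebraMap_apply R[X] S B, map_mul] at h0
    exact (Ideal.mul_unit_mem_iff_mem _ (hs.map (Ideal.Quotient.mk _))).mp h0
  have hfin : Module.Finite R (M ⧸ N) := by
    refine Module.Finite.of_surjective ((Ideal.Quotient.mkₐ R N).toLinearMap.comp Φ) fun q => ?_
    obtain ⟨m, rfl⟩ := Ideal.Quotient.mk_surjective q
    obtain ⟨c, hc⟩ := hsp m
    exact ⟨c, (Ideal.Quotient.eq.mpr hc).symm⟩
  obtain ⟨hMfin, -⟩ := HfpFinite.finite_and_finitePresentation (maximalIdeal R) R0 M hM hfin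
  have hΦs : LinearMap.range Φ = ⊤ := by
    refine eq_top_iff.mpr (Submodule.le_of_le_smul_of_le_jacobson_bot Module.Finite.fg_top
      (HenselianRing.jac (I := maximalIdeal R)) fun m _ => ?_)
    obtain ⟨c, hc⟩ := hsp m
    rw [← add_sub_cancel (Φ c) m]
    refine Submodule.add_mem_sup ⟨c, rfl⟩ ?_
    rw [Ideal.smul_top_eq_map]
    exact hc
  obtain ⟨c, hc⟩ := LinearMap.range_eq_top.mp hΦs (Ideal.Quotient.mk _ (bX ^ d))
  rw [hΦ, eq_comm, Ideal.Quotient.eq] at hc
  refine ⟨d, algebraMap S B s, hs, ?_, c, hc⟩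
  have h0 := Ideal.mem_map_of_mem (algebraMap S B) has
  rw [Ideal.map_map, ← IsScalarTower.algebraMap_eq, map_sub, map_mul, map_pow,
    ← IsScalarTower.algebraMap_apply R[X] S B] at h0
  exact h0

include hB in
/-- Existence in Weierstrass preparation. -/
theorem exists_prep (f : B) (hf : f ∉ (maximalIdeal R).map (algebraMap R B)) :
    ∃ (P : R[X]) (u : Bˣ), P.Monic ∧ (∀ i : ℕ, i < P.natDegree → P.coeff i ∈ maximalIdeal R) ∧
      f = algebraMap R[X] B P * (u : B) := by
  obtain ⟨d, w, hw, hfw, c, hc⟩ := exists_span hB f hf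
  let P : R[X] := X ^ d - ∑ i : Fin d, C (c i) * X ^ (i : ℕ)
  have hsum : degree (∑ i : Fin d, C (c i) * X ^ (i : ℕ)) < (d : WithBot ℕ) :=
    Polynomial.degree_sum_fin_lt c
  have hmonic : P.Monic := monic_X_pow_sub hsum
  have hdeg : P.natDegree = d := by
    refine natDegree_eq_of_degree_eq_some ?_
    show (X ^ d - _ : R[X]).degree = d
    rw [degree_sub_eq_left_of_degree_lt (by rwa [degree_X_pow]), degree_X_pow]
  have hP : algebraMap R[X] B P = bX ^ d - ∑ i, c i • bX ^ (i : ℕ) := by
    simp only [P, map_sub, map_pow, map_sum, map_mul, Algebra.smul_def,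
      IsScalarTower.algebraMap_apply R R[X] B, Polynomial.algebraMap_eq]
  obtain ⟨v, hv⟩ := Ideal.mem_span_singleton.mp (hP ▸ hc)
  have hPv : algebraMap R[X] B P - bX ^ d * (w * v) ∈ (maximalIdeal R).map (algebraMap R B) := by
    rw [hv, show f * v - bX ^ d * (w * v) = (f - bX ^ d * w) * v by ring]
    exact Ideal.mul_mem_right _ _ hfw
  have hcoef : ∀ i : ℕ, i < P.natDegree → P.coeff i ∈ maximalIdeal R := by
    rw [hdeg]
    intro i hi
    refine coeff_mem_of_mem hB ?_ hi
    have := Submodule.add_mem_sup hPv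
      (Ideal.mul_mem_right (w * v) _ (Ideal.mem_span_singleton_self (bX ^ d)))
    rwa [sub_add_cancel] at this
  have huv : IsUnit v := by
    refine (isUnit_or_mem hB v).resolve_right fun hmem => ?_
    obtain ⟨y, hy, z, hz, rfl⟩ := Submodule.mem_sup.mp hmem
    obtain ⟨z, rfl⟩ := Ideal.mem_span_singleton.mp hz
    have h1 : algebraMap R[X] B P - bX ^ (d + 1) * (w * z) ∈ (maximalIdeal R).map (algebraMap R B) := by
      rw [show algebraMap R[X] B P - bX ^ (d + 1) * (w * z)
          = (algebraMap R[X] B P - bX ^ d * (w * (y + bX * z))) + bX ^ d * w * y by rw [pow_succ]; ring]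
      exact add_mem hPv (Ideal.mul_mem_left _ _ hy)
    have h2 := Submodule.add_mem_sup h1
      (Ideal.mul_mem_right (w * z) _ (Ideal.mem_span_singleton_self (bX ^ (d + 1))))
    rw [sub_add_cancel] at h2
    have h3 := coeff_mem_of_mem hB h2 (Nat.lt_succ_self d)
    have h4 : P.coeff d = 1 := hdeg ▸ hmonic.coeff_natDegree
    rw [h4] at h3
    exact (maximalIdeal.isMaximal R).ne_top ((Ideal.eq_top_iff_one _).mpr h3)
  refine ⟨P, huv.unit⁻¹, hmonic, hcoef, ?_⟩
  rw [hv, mul_assoc, IsUnit.mul_val_inv, mul_one]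

end Groth.Agent.H24.Weierstrass
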